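import Groth.Agent.L08.P1Hom.ToProper

/-!
# Homomorphisms from a torus to a proper group over any base are trivial
-/

set_option autoImplicit false
set_option backward.isDefEq.respectTransparency.types false
set_option linter.style.haveILetI false

universe u

open CategoryTheory CategoryTheory.Limits MonoidalCategory CartesianMonoidalCategory MonObj
open AlgebraicGeometry

noncomputable section

namespace Groth.L08.P1Hom

theorem triv_fibre {S : Scheme.{u}} {T A : Over S} [GrpObj T] [GrpObj A] (hT : Red.IsTorus T)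
    [IsProper A.hom] (f : T ⟶ A) [IsMonHom f] (s : S) :
    L25.TrivLocus.Triv f (S.fromSpecResidueField s) := by
  obtain ⟨S', g, -, hsurj, -, hloc⟩ := hT
  obtain ⟨s', rfl⟩ := hsurj.surj s
  obtain ⟨U, hs', r, ⟨e⟩⟩ := hloc s'
  let L := U.toScheme.residueField ⟨s', hs'⟩
  let σ : Spec (CommRingCat.of L) ⟶ U.toScheme := U.toScheme.fromSpecResidueField ⟨s', hs'⟩
  let t := σ ≫ U.ι ≫ g
  let eL : Grp.mk (Red.bc t T) ≅ Grp.mk (Red.DS (Spec (CommRingCat.of L)) (Fin r → ℤ)) :=
    L25.TrivLocus.restrictIso (U.ι ≫ g) σ e rfl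
  haveI : IsProper (Red.bc t A).hom := MorphismProperty.pullback_snd _ _ ‹IsProper A.hom›
  haveI : IsMonHom eL.inv.hom.hom := eL.inv.hom.isMonHom_hom
  have h1 : eL.inv.hom.hom ≫ (Over.pullback t).map f = 1 :=
    hom_splitTorus_eq_one r (eL.inv.hom.hom ≫ (Over.pullback t).map f)
  have h2 : (Over.pullback t).map f = 1 := by
    calc (Over.pullback t).map f = (eL.hom.hom.hom ≫ eL.inv.hom.hom) ≫ (Over.pullback t).map f := by
          rw [show eL.hom.hom.hom ≫ eL.inv.hom.hom = 𝟙 _ from congr($(eL.hom_inv_id).hom.hom)]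
          exact (Category.id_comp _).symm
      _ = 1 := by rw [Category.assoc, h1, MonObj.comp_one]
  have h3 : L25.TrivLocus.Triv f t := (L25.TrivLocus.triv_iff_map f t).2 h2
  have hpt : t (IsLocalRing.closedPoint L) = g s' := by
    show g (U.ι (σ (IsLocalRing.closedPoint L))) = g s'
    rw [Scheme.fromSpecResidueField_apply]
    rfl
  have h4 := (L25.TrivLocus.triv_field_iff f t).1 h3
  rwa [hpt] at h4

theorem hom_torus_eq_one_rel {S : Scheme.{u}} {T A : Over S} [GrpObj T] [GrpObj A]
    (hT : Red.IsTorus T) [IsProper A.hom] [LocallyOfFinitePresentation A.hom] (f : T ⟶ A)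
    [IsMonHom f] : f = 1 := by
  obtain ⟨U, -, hU, hUtriv⟩ := L25.TrivLocus.main (L25.Locus.isMultTypeFT_of_isTorus hT)
    (Or.inr ⟨inferInstance, inferInstance, inferInstance⟩) f
  obtain rfl : U = ⊤ := top_le_iff.1 fun s _ =>
    (hU s).2 ((L25.TrivLocus.triv_iff_map f _).1 (triv_fibre hT f s))
  rw [← L25.TrivLocus.triv_iff_map] at hUtriv
  have h := hUtriv.comp f S.topIso.inv S.topIso.inv_hom_id
  simpa using h T (Over.homMk T.hom (Category.comp_id _)) (𝟙 T)

end Groth.L08.P1Hom
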