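import Groth.Agent.L08.P1Hom.ToProper
import Groth.Agent.L18.GIT.TorusChars
import Groth.Agent.L25.Locus.FixedConn
import Groth.Agent.L25.GeomRed
import Groth.Agent.L26.AV.Isogeny
import Groth.Agent.Lead.Neutral
import Mathlib.Algebra.Polynomial.RingDivision

/-!
# Morphisms from an affine space to groups with semiabelian neutral component
-/

set_option autoImplicit false
set_option backward.isDefEq.respectTransparency.types false
set_option linter.style.haveILetI false

universe u

open CategoryTheory CategoryTheory.Limits MonoidalCategory CartesianMonoidalCategory MonObj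
open AlgebraicGeometry

noncomputable section

namespace Groth.L08.P1Hom

variable (K : Type u) [Field K]

/-- the affine line over `K` -/
abbrev lineK : Over (Spec (CommRingCat.of K)) :=
  Over.mk (Spec.map (CommRingCat.ofHom (Polynomial.C : K →+* Polynomial K)))

/-- evaluation at a rational point of the line -/
def lineAt (c : K) : 𝟙_ (Over (Spec (CommRingCat.of K))) ⟶ lineK K :=
  Over.homMk (Spec.map (CommRingCat.ofHom (Polynomial.evalRingHom c))) (by
    show Spec.map _ ≫ Spec.map _ = 𝟙 _
    rw [← Spec.map_comp, ← CommRingCat.ofHom_comp,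
      show (Polynomial.evalRingHom c).comp Polynomial.C = RingHom.id K from RingHom.ext fun r => by simp,
      CommRingCat.ofHom_id, Spec.map_id])

/-- A morphism from the line to a torus over an algebraically closed field is constant. -/
theorem const_line_torus [IsAlgClosed K] {T : Over (Spec (CommRingCat.of K))} [GrpObj T]
    (hT : Red.IsTorus T) (h : lineK K ⟶ T) : h = toUnit _ ≫ lineAt K 0 ≫ h := by
  obtain ⟨M, _, ⟨e⟩⟩ := L18.TorusChars.exists_split T hT
  suffices hd : h ≫ e.hom.hom.hom = toUnit _ ≫ lineAt K 0 ≫ h ≫ e.hom.hom.hom by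
    have := congrArg (· ≫ e.inv.hom.hom) hd
    simp only [Category.assoc] at this
    rw [show e.hom.hom.hom ≫ e.inv.hom.hom = 𝟙 T from congr($(e.hom_inv_id).hom.hom)] at this
    simpa using this
  let g : lineK K ⟶ Red.DS (Spec (CommRingCat.of K)) M := h ≫ e.hom.hom.hom
  show g = toUnit _ ≫ lineAt K 0 ≫ g
  refine L25.DSPts.char_injective (MonoidHom.ext fun m => ?_)
  rw [← Category.assoc]
  refine Eq.trans ?_ (L25.DSPts.char_comp (toUnit _ ≫ lineAt K 0) g m).symm
  have hu : IsUnit (L25.DSPts.char g m) := (Group.isUnit m).map _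
  let i := Scheme.ΓSpecIso (CommRingCat.of (Polynomial K))
  obtain ⟨c, -, hc⟩ := Polynomial.isUnit_iff.1 (hu.map i.hom.hom)
  have h1 : L25.DSPts.char g m = i.inv (Polynomial.C c) := by
    rw [hc]; exact (Iso.hom_inv_id_apply i _).symm
  rw [h1]
  show i.inv (Polynomial.C c) = (Spec.map (CommRingCat.ofHom (Polynomial.C : K →+* Polynomial K)) ≫
    Spec.map (CommRingCat.ofHom (Polynomial.evalRingHom (0 : K)))).appTop (i.inv (Polynomial.C c))
  rw [← Spec.map_comp]
  let φ : CommRingCat.of (Polynomial K) ⟶ CommRingCat.of (Polynomial K) :=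
    CommRingCat.ofHom (Polynomial.evalRingHom (0 : K)) ≫ CommRingCat.ofHom (Polynomial.C : K →+* Polynomial K)
  refine Eq.trans ?_ (congrArg (fun z : CommRingCat.of (Polynomial K) ⟶ _ => z.hom (Polynomial.C c))
    (Scheme.ΓSpecIso_inv_naturality φ))
  show i.inv (Polynomial.C c) = i.inv (φ.hom (Polynomial.C c))
  simp [i, φ]

section Rel

variable {K} {k : Type u} [Field k] [Algebra k K]

local notation "tK" => Spec.map (CommRingCat.ofHom (algebraMap k K))

/-- the affine line over `K` as a `k`-scheme -/
abbrev lineOver (k : Type u) [Field k] (K : Type u) [Field K] [Algebra k K] :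
    Over (Spec (CommRingCat.of k)) :=
  Over.mk ((lineK K).hom ≫ Spec.map (CommRingCat.ofHom (algebraMap k K)))

/-- its projection -/
def linePr : lineOver k K ⟶ Groth.Agent.AV.Isogeny.geomPt k K := Over.homMk (lineK K).hom rfl

/-- its sections -/
def lineSec (c : K) : Groth.Agent.AV.Isogeny.geomPt k K ⟶ lineOver k K :=
  Over.homMk (lineAt K c).left (by
    show (lineAt K c).left ≫ (lineK K).hom ≫ tK = tK
    rw [← Category.assoc]
    exact (congrArg (· ≫ tK) (Over.w (lineAt K c))).trans (Category.id_comp _))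

theorem lineSec_pr (c : K) : lineSec (k := k) c ≫ linePr = 𝟙 _ :=
  Over.OverMorphism.ext (Over.w (lineAt K c))

theorem const_of_const {A : Over (Spec (CommRingCat.of k))} (f : lineOver k K ⟶ A)
    (hc : ∃ c, L25.NilAction.ofBase tK f = toUnit (lineK K) ≫ c) :
    f = linePr ≫ lineSec 0 ≫ f := by
  obtain ⟨c, hc⟩ := hc
  let b : Groth.Agent.AV.Isogeny.geomPt k K ⟶ A := Over.homMk (c.left ≫ pullback.fst A.hom tK) (by
    show (c.left ≫ pullback.fst A.hom tK) ≫ A.hom = tK
    rw [Category.assoc, pullback.condition, ← Category.assoc]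
    exact (congrArg (· ≫ tK) (Over.w c)).trans (Category.id_comp _))
  have h1 : f = linePr ≫ b := by
    conv_lhs => rw [← L25.NilAction.toBase_ofBase tK f, hc]
    apply Over.OverMorphism.ext
    show ((toUnit (lineK K)).left ≫ c.left) ≫ pullback.fst A.hom tK = _
    rw [Over.toUnit_left, Category.assoc]
    rfl
  rw [h1, ← Category.assoc (lineSec 0) linePr b, lineSec_pr, Category.id_comp]

theorem rel_const_proper [IsAlgClosed K] {A : Over (Spec (CommRingCat.of k))} [GrpObj A] [IsProper A.hom]
    (f : lineOver k K ⟶ A) : f = linePr ≫ lineSec 0 ≫ f := by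
  haveI : IsProper (Red.bc tK A).hom := MorphismProperty.pullback_snd _ _ ‹IsProper A.hom›
  exact const_of_const f (const_of_affineLine (L25.NilAction.ofBase tK f))

theorem rel_const_torus [IsAlgClosed K] {T : Over (Spec (CommRingCat.of k))} [GrpObj T]
    (hT : Red.IsTorus T) (f : lineOver k K ⟶ T) : f = linePr ≫ lineSec 0 ≫ f :=
  const_of_const f ⟨_, const_line_torus K (L25.Locus.isTorus_bc hT tK) (L25.NilAction.ofBase tK f)⟩

variable [IsAlgClosed K]

/-- A morphism from the line to a group with semiabelian open subgroup is constant. -/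
theorem rel_const_largeGrp {G G0 T A : Over (Spec (CommRingCat.of k))} [GrpObj G] [GrpObj G0]
    (e : G0 ⟶ G) [IsMonHom e] [IsOpenImmersion e.left] [GrpObj T] (i : T ⟶ G0) [IsMonHom i]
    (hT : Red.IsTorus T) [GrpObj A] [IsProper A.hom] (q : G0 ⟶ A) [IsMonHom q]
    (hker : AlgGrp.IsKernel i q) (g : lineOver k K ⟶ G) : g = linePr ≫ lineSec 0 ≫ g := by
  let z := lineSec (k := k) (0 : K)
  let g' : lineOver k K ⟶ G := g * (linePr ≫ z ≫ g)⁻¹
  have hz : z ≫ g' = 1 := by
    simp only [g', MonObj.comp_mul, GrpObj.comp_inv, ← Category.assoc, z, lineSec_pr,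
      Category.id_comp, mul_inv_cancel]
  haveI : Mono e := (Over.forget _).mono_of_mono_map (inferInstanceAs (Mono e.left))
  have hR := Lead.Neutral.range_isSubgroupSet e
  have hclopen : IsClopen (Set.range e.left) :=
    ⟨Lead.Neutral.isClosed_of_isOpen hR e.left.isOpenEmbedding.isOpen_range,
      e.left.isOpenEmbedding.isOpen_range⟩
  have hsub : Set.range g'.left ⊆ Set.range e.left := by
    haveI : IrreducibleSpace ↥(lineOver k K).left :=
      inferInstanceAs (IrreducibleSpace ↥(Spec (CommRingCat.of (Polynomial K))))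
    refine (isPreconnected_range g'.left.continuous).subset_isClopen hclopen ?_
    let pt : (Groth.Agent.AV.Isogeny.geomPt k K).left := IsLocalRing.closedPoint K
    refine ⟨g'.left (z.left pt), ⟨_, rfl⟩, (1 : Groth.Agent.AV.Isogeny.geomPt k K ⟶ G0).left pt, ?_⟩
    have h := congrArg (fun m => m.left pt) ((MonObj.one_comp e).trans hz.symm)
    exact h
  let g0 : lineOver k K ⟶ G0 := Over.homMk (IsOpenImmersion.lift e.left g'.left hsub) (by
    rw [← Over.w e, IsOpenImmersion.lift_fac_assoc, Over.w g'])
  have hg0 : g0 ≫ e = g' := Over.OverMorphism.ext (IsOpenImmersion.lift_fac _ _ _)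
  have hz0 : z ≫ g0 = 1 := by
    rw [← cancel_mono e, Category.assoc, hg0, hz, MonObj.one_comp]
  have hq : g0 ≫ q = toUnit _ ≫ η[A] := by
    rw [rel_const_proper (g0 ≫ q), ← Category.assoc (lineSec 0), show lineSec 0 ≫ g0 = 1 from hz0,
      MonObj.one_comp, MonObj.comp_one, Hom.one_def]
  let hh := hker.lift g0 (toUnit _) hq
  have hhi : hh ≫ i = g0 := hker.lift_fst _ _ hq
  have h1 : g0 = 1 := by
    rw [← hhi, rel_const_torus hT hh]
    simp only [Category.assoc]
    rw [hhi, hz0, MonObj.comp_one]
  have h2 : g' = 1 := by rw [← hg0, h1, MonObj.one_comp]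
  exact mul_inv_eq_one.1 h2

end Rel

end Groth.L08.P1Hom
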