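import Groth.Agent.L08.P1Hom.Scale
import Groth.Agent.L11.REq.Line
import Groth.Agent.L16.ProjSpace.Sections
import Groth.Agent.S14577
import Mathlib.AlgebraicGeometry.Morphisms.Separated

/-!
# A morphism from the projective line to a group is constant

`φ(t x) φ(x)⁻¹` on `ℙ¹ × 𝔾ₘ` is trivial for `t = 1`, hence everywhere by rigidity, so `φ(t) = φ(1)`.
-/

set_option autoImplicit false
set_option backward.isDefEq.respectTransparency.types false
set_option linter.style.haveILetI false

universe u

open CategoryTheory CategoryTheory.Limits MonoidalCategory CartesianMonoidalCategory MonObj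
open AlgebraicGeometry

noncomputable section

namespace Groth.L08.P1Hom

/-- The charts of projective space. -/
def cover (n : ℕ) (R : Type u) [CommRing R] : (CohB1.ProjSpace n R).OpenCover :=
  Scheme.Cover.mkOfCovers (Fin (n + 1))
    (fun i => Spec (CommRingCat.of (HomogeneousLocalization.Away (CohB1.polyGrading n R)
      (MvPolynomial.X i : MvPolynomial (Fin (n + 1)) R))))
    (fun i => L18.PS.chart n R i)
    (fun x => by
      have hx : x ∈ (⊤ : (CohB1.ProjSpace n R).Opens) := trivial
      obtain ⟨i, hi⟩ := TopologicalSpace.Opens.mem_iSup.mp (L18.PS.iSup_chart.ge hx)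
      rw [← L18.PS.range_chart] at hi
      obtain ⟨y, hy⟩ := hi
      exact ⟨i, y, hy⟩)
    (fun i => inferInstance)

theorem smap_toSpec {n : ℕ} {R R' : Type u} [CommRing R] [CommRing R'] (φ : R →+* R')
    (c : Fin (n + 1) → R') (hc : ∀ j, IsUnit (c j)) :
    smap n φ c hc ≫ CohB1.ProjSpace.toSpec n R =
      CohB1.ProjSpace.toSpec n R' ≫ Spec.map (CommRingCat.ofHom φ) := by
  refine Scheme.Cover.hom_ext (cover n R') _ _ fun i => ?_
  let B := CommRingCat.of (HomogeneousLocalization.Away (CohB1.polyGrading n R')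
      (MvPolynomial.X i : MvPolynomial (Fin (n + 1)) R'))
  have hone : IsUnit ((RingHom.id B) (L18.PS.coord (R := R') i i)) := by
    rw [L18.PS.coord_self, map_one]; exact isUnit_one
  let b : Fin (n + 1) → B := fun j => L18.PS.coord i j
  have hb : IsUnit (b i) := hone
  have hch : L18.PS.chart n R' i =
      L18.PS.tuplePt (B := B) (L18.PS.chartScalar n R' i) b i hb := by
    rw [L18.PS.tuplePt]
    have h := L18.PS.chartHom_universal (C := B) i (RingHom.id B) hone
    rw [show L18.PS.chartHom (L18.PS.chartScalar n R' i) b i hb = RingHom.id B from h,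
      CommRingCat.ofHom_id]
    erw [Spec.map_id, Category.id_comp]
  show L18.PS.chart n R' i ≫ _ = L18.PS.chart n R' i ≫ _
  rw [hch, ← Category.assoc, tuplePt_smap, ← Category.assoc, L18.PS.tuplePt_toSpec,
    L18.PS.tuplePt_toSpec, ← Spec.map_comp, ← CommRingCat.ofHom_comp]

theorem const_of_projLine {k : Type u} [Field k] {G : Over (Spec (CommRingCat.of k))} [GrpObj G]
    [IsSeparated G.hom] (φ : CohB1.ProjSpace 1 k ⟶ G.left)
    (hφ : φ ≫ G.hom = CohB1.ProjSpace.toSpec 1 k) :
    ∃ g : Spec (CommRingCat.of k) ⟶ G.left, g ≫ G.hom = 𝟙 _ ∧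
      φ = CohB1.ProjSpace.toSpec 1 k ≫ g := by
  let R := Localization.Away (Polynomial.X : Polynomial k)
  let T : R := algebraMap (Polynomial k) R Polynomial.X
  have hT : IsUnit T := IsLocalization.Away.algebraMap_isUnit (S := R) Polynomial.X
  haveI : IsDomain R :=
    IsLocalization.isDomain_localization (powers_le_nonZeroDivisors_of_noZeroDivisors Polynomial.X_ne_zero)
  haveI : IsNoetherianRing R := IsLocalization.isNoetherianRing (Submonoid.powers (Polynomial.X : Polynomial k)) R inferInstance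
  let alg : k →+* R := (algebraMap (Polynomial k) R).comp Polynomial.C
  let ev : R →+* k := IsLocalization.Away.lift (Polynomial.X : Polynomial k)
    (g := Polynomial.evalRingHom (1 : k)) (by simp)
  have hevalg : ev.comp alg = RingHom.id k := by
    ext r; simp [ev, alg, IsLocalization.Away.lift_eq]
  have hevT : ev T = 1 := by simp [ev, T, IsLocalization.Away.lift_eq]
  let cT : Fin 2 → R := fun j => if j = 0 then 1 else T
  have hcT : ∀ j, IsUnit (cT j) := fun j => by by_cases h : j = 0 <;> simp [cT, h, hT]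
  let X : Over (Spec (CommRingCat.of k)) := Over.mk (CohB1.ProjSpace.toSpec 1 k)
  let Y : Over (Spec (CommRingCat.of k)) := Over.mk (Spec.map (CommRingCat.ofHom alg))
  let e := (L16.ProjSpace.isPullback_map 1 alg).isoPullback
  let φo : X ⟶ G := Over.homMk φ hφ
  let act : X ⊗ Y ⟶ X := Over.homMk (e.inv ≫ smap 1 alg cT hcT) (by
    show (e.inv ≫ smap 1 alg cT hcT) ≫ CohB1.ProjSpace.toSpec 1 k =
      pullback.fst (CohB1.ProjSpace.toSpec 1 k) (Spec.map (CommRingCat.ofHom alg)) ≫
        CohB1.ProjSpace.toSpec 1 k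
    rw [Category.assoc, smap_toSpec, ← (L16.ProjSpace.isPullback_map 1 alg).w,
      IsPullback.isoPullback_inv_fst_assoc])
  let f : X ⊗ Y ⟶ G := (act ≫ φo) * (fst X Y ≫ φo)⁻¹
  let y₀ : 𝟙_ (Over (Spec (CommRingCat.of k))) ⟶ Y := Over.homMk (Spec.map (CommRingCat.ofHom ev)) (by
    show Spec.map (CommRingCat.ofHom ev) ≫ Spec.map (CommRingCat.ofHom alg) = 𝟙 _
    rw [← Spec.map_comp, ← CommRingCat.ofHom_comp, hevalg, CommRingCat.ofHom_id, Spec.map_id])
  let pt : ∀ (a : Fin 2 → CommRingCat.of k), IsUnit (a 0) → (𝟙_ (Over (Spec (CommRingCat.of k))) ⟶ X) :=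
    fun a ha => Over.homMk (L18.PS.tuplePt (B := CommRingCat.of k) (RingHom.id k) a 0 ha) (by
      show L18.PS.tuplePt _ _ _ _ ≫ CohB1.ProjSpace.toSpec 1 k = 𝟙 _
      rw [L18.PS.tuplePt_toSpec]; exact Spec.map_id _)
  let a1 : Fin 2 → CommRingCat.of k := fun _ => (1 : k)
  let a0 : Fin 2 → CommRingCat.of k := fun j => if j = 0 then (1 : k) else 0
  have ha0 : IsUnit (a0 0) := by simp [a0]
  let x₁ := pt a1 isUnit_one
  let x₀ := pt a0 ha0
  -- the orbit of a rational point
  have horb : ∀ (a : Fin 2 → CommRingCat.of k) (ha : IsUnit (a 0)),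
      (lift (toUnit Y ≫ pt a ha) (𝟙 Y) ≫ act).left =
        L18.PS.tuplePt (B := CommRingCat.of R) alg (fun m => cT m * alg (a m)) 0
          ((hcT 0).mul (ha.map alg)) := by
    intro a ha
    let aR : Fin 2 → CommRingCat.of R := fun m => alg (a m)
    have h2 : L18.PS.tuplePt (B := CommRingCat.of R) (RingHom.id R) aR 0 (ha.map alg) ≫ e.hom =
        (lift (toUnit Y ≫ pt a ha) (𝟙 Y)).left := by
      apply pullback.hom_ext
      · rw [Category.assoc, IsPullback.isoPullback_hom_fst, map_eq_smap, tuplePt_smap]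
        refine Eq.trans ?_ (congrArg (fun m => m.left) (lift_fst (toUnit Y ≫ pt a ha) (𝟙 Y))).symm
        show _ = Spec.map (CommRingCat.ofHom alg) ≫ L18.PS.tuplePt _ a 0 ha
        rw [L18.PS.SpecMap_tuplePt]
        simp only [RingHom.id_comp, RingHom.comp_id, map_one, _root_.one_mul, aR]
        rfl
      · rw [Category.assoc, IsPullback.isoPullback_hom_snd, L18.PS.tuplePt_toSpec]
        refine Eq.trans ?_ (congrArg (fun m => m.left) (lift_snd (toUnit Y ≫ pt a ha) (𝟙 Y))).symm
        exact Spec.map_id _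
    show (lift (toUnit Y ≫ pt a ha) (𝟙 Y)).left ≫ e.inv ≫ smap 1 alg cT hcT = _
    rw [← h2, Category.assoc, Iso.hom_inv_id_assoc, tuplePt_smap]
    simp only [RingHom.id_comp]
    rfl
  -- at `t = 1` the two maps agree
  have hone : ∀ (W : Over (Spec (CommRingCat.of k))) (x : W ⟶ X),
      lift x (toUnit W ≫ y₀) ≫ act = x := by
    have h1 : lift (𝟙 X) (toUnit X ≫ y₀) ≫ act = 𝟙 X := by
      apply Over.OverMorphism.ext
      show (lift (𝟙 X) (toUnit X ≫ y₀)).left ≫ e.inv ≫ smap 1 alg cT hcT = 𝟙 _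
      have h2 : L16.ProjSpace.map 1 ev ≫ e.hom = (lift (𝟙 X) (toUnit X ≫ y₀)).left := by
        apply pullback.hom_ext
        · rw [Category.assoc, IsPullback.isoPullback_hom_fst, map_eq_smap, map_eq_smap, smap_comp]
          refine (smap_congr 1 hevalg (fun j => ?_) _ (fun _ => isUnit_one)).trans ((smap_id 1).trans ?_)
          · simp
          · exact ((congrArg (fun m => m.left) (lift_fst (𝟙 X) (toUnit X ≫ y₀))).symm)
        · rw [Category.assoc, IsPullback.isoPullback_hom_snd]
          refine (L16.ProjSpace.map_toSpec 1 ev).trans ?_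
          exact ((congrArg (fun m => m.left) (lift_snd (𝟙 X) (toUnit X ≫ y₀))).symm)
      rw [← h2, Category.assoc, Iso.hom_inv_id_assoc, map_eq_smap, smap_comp]
      refine (smap_congr 1 hevalg (fun j => ?_) _ (fun _ => isUnit_one)).trans (smap_id 1)
      by_cases h : j = 0 <;> simp [cT, h, hevT]
    intro W x
    have h := congrArg (x ≫ ·) h1
    simpa [comp_lift_assoc] using h
  have hf0 : ∀ (W : Over (Spec (CommRingCat.of k))) (x : W ⟶ X),
      lift x (toUnit W ≫ y₀) ≫ f = 1 := fun W x => by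
    simp only [f, MonObj.comp_mul, GrpObj.comp_inv, ← Category.assoc, hone, lift_fst, mul_inv_cancel]
  -- rigidity
  haveI : QuasiCompact X.hom := inferInstanceAs (QuasiCompact (CohB1.ProjSpace.toSpec 1 k))
  haveI : IsSeparated X.hom := inferInstanceAs (IsSeparated (CohB1.ProjSpace.toSpec 1 k))
  haveI : IsSeparated Y.hom := inferInstanceAs (IsSeparated (Spec.map (CommRingCat.ofHom alg)))
  haveI : IrreducibleSpace ↥Y.left := inferInstanceAs (IrreducibleSpace ↥(Spec (CommRingCat.of R)))
  haveI : IsReduced Y.left := inferInstanceAs (IsReduced (Spec (CommRingCat.of R)))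
  haveI : IsLocallyNoetherian Y.left := inferInstanceAs (IsLocallyNoetherian (Spec (CommRingCat.of R)))
  have hX : Function.Bijective
      ((Scheme.ΓSpecIso (CommRingCat.of k)).inv ≫ X.hom.appTop).hom := by
    haveI := L16.ProjSpace.isIso_toSpec_appTop 1 k
    exact ConcreteCategory.bijective_of_isIso
      ((Scheme.ΓSpecIso (CommRingCat.of k)).inv ≫ (CohB1.ProjSpace.toSpec 1 k).appTop)
  have hf : f = 1 := by
    have hw : (X ◁ y₀) ≫ f = 1 := by
      rw [show (X ◁ y₀) = lift (fst X _) (toUnit _ ≫ y₀) from by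
        apply hom_ext
        · simp
        · simp [toUnit_unique (toUnit _) (snd X (𝟙_ _))]]
      exact hf0 _ _
    have hw' : lift x₀ y₀ ≫ f = 1 := by
      have := hf0 _ x₀
      rwa [toUnit_unique (toUnit _) (𝟙 _), Category.id_comp] at this
    have hfix : lift (toUnit Y ≫ x₀) (𝟙 Y) ≫ act = toUnit Y ≫ x₀ := by
      apply Over.OverMorphism.ext
      rw [horb a0 ha0]
      show _ = Spec.map (CommRingCat.ofHom alg) ≫ L18.PS.tuplePt _ a0 0 ha0
      rw [L18.PS.SpecMap_tuplePt]
      refine L18.PS.tuplePt_congr _ (fun m => ?_) 0 0 _ _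
      by_cases h : m = 0 <;> simp [cT, a0, h]
    have hr := Groth.Agent.S14577.result k X Y G hX x₀ y₀ f (by rw [hw, hw', MonObj.comp_one])
    have hh : lift (toUnit Y ≫ x₀) (𝟙 Y) ≫ f = 1 := by
      simp only [f, MonObj.comp_mul, GrpObj.comp_inv, ← Category.assoc, hfix, lift_fst, mul_inv_cancel]
    rw [hr, hh, MonObj.comp_one]
  -- the scaling orbit of `[1 : 1]` is dense
  let w : Y ⟶ X ⊗ Y := lift (toUnit Y ≫ x₁) (𝟙 Y)
  have hkey : w ≫ act ≫ φo = toUnit Y ≫ x₁ ≫ φo := by
    have h := congrArg (w ≫ ·) hf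
    simp only [f, MonObj.comp_mul, GrpObj.comp_inv, MonObj.comp_one, mul_inv_eq_one] at h
    rw [h, ← Category.assoc, lift_fst, Category.assoc]
  let j : Spec (CommRingCat.of R) ⟶ CohB1.ProjSpace 1 k := (w ≫ act).left
  have hj : j = Spec.map (CommRingCat.ofHom (algebraMap (Polynomial k) R)) ≫
      L18.PS.tuplePt (B := CommRingCat.of (Polynomial k)) (Polynomial.C : k →+* Polynomial k)
        (fun j => if j = 0 then 1 else Polynomial.X) 0 (by simp) := by
    show (lift (toUnit Y ≫ pt a1 isUnit_one) (𝟙 Y) ≫ act).left = _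
    rw [horb a1 isUnit_one, L18.PS.SpecMap_tuplePt]
    refine L18.PS.tuplePt_congr _ (fun m => ?_) 0 0 _ _
    by_cases h : m = 0 <;> simp [cT, h, a1, T]
  haveI : IsOpenImmersion j := by
    rw [hj]
    haveI : IsOpenImmersion (Spec.map (CommRingCat.ofHom (algebraMap (Polynomial k) R))) :=
      IsOpenImmersion.of_isLocalization (Polynomial.X : Polynomial k)
    haveI : IsIso (CommRingCat.ofHom (L18.PS.chartHom (Polynomial.C : k →+* Polynomial k)
        (fun j : Fin (1 + 1) => if j = 0 then 1 else Polynomial.X) 0 (by simp))) :=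
      (ConcreteCategory.isIso_iff_bijective _).mpr (L11.REqHom.chartHom_line_bijective k)
    rw [L18.PS.tuplePt]
    infer_instance
  haveI : IsDominant j := ⟨IsOpen.dense j.isOpenEmbedding.isOpen_range (Set.range_nonempty _)⟩
  refine ⟨(x₁ ≫ φo).left, Over.w (x₁ ≫ φo), ?_⟩
  refine ext_of_isDominant_of_isSeparated G.hom ?_ j ?_
  · rw [hφ, Category.assoc, Over.w (x₁ ≫ φo)]
    exact (Category.comp_id _).symm
  · have h := congrArg (fun m => m.left) hkey
    refine Eq.trans ?_ (Eq.trans h ?_)
    · exact Category.assoc _ _ _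
    · show (toUnit Y).left ≫ _ = j ≫ _
      rw [← Category.assoc j]
      congr 1
      rw [Over.toUnit_left]
      exact (Over.w (w ≫ act)).symm

end Groth.L08.P1Hom
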