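import Groth.Agent.L16.ProjSpace.BaseChange
import Groth.Agent.L18.ProjSpace

/-!
# Coordinate scalings of projective space over a change of rings
-/

set_option autoImplicit false
set_option backward.isDefEq.respectTransparency.types false
set_option linter.style.haveILetI false

universe u

open CategoryTheory CategoryTheory.Limits AlgebraicGeometry MvPolynomial HomogeneousLocalization

noncomputable section

namespace Groth.L08.P1Hom

variable (n : ℕ) {R R' R'' : Type u} [CommRing R] [CommRing R'] [CommRing R'']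

/-- `Xⱼ ↦ cⱼ Xⱼ` -/
def scaleGraded (φ : R →+* R') (c : Fin (n + 1) → R') :
    CohB1.polyGrading n R →+*ᵍ CohB1.polyGrading n R' :=
  { eval₂Hom ((C : R' →+* MvPolynomial (Fin (n + 1)) R').comp φ) (fun j => C (c j) * X j) with
    map_mem := fun {i _} h => by
      have h' := MvPolynomial.IsHomogeneous.eval₂ h ((C : R' →+* MvPolynomial (Fin (n + 1)) R').comp φ)
        (fun j => C (c j) * X j) (fun r => isHomogeneous_C _ _) (fun j => isHomogeneous_C_mul_X (c j) j)
      rw [_root_.one_mul] at h'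
      exact h' }

@[simp] theorem scaleGraded_apply (φ : R →+* R') (c : Fin (n + 1) → R')
    (p : MvPolynomial (Fin (n + 1)) R) :
    scaleGraded n φ c p =
      eval₂Hom ((C : R' →+* MvPolynomial (Fin (n + 1)) R').comp φ) (fun j => C (c j) * X j) p := rfl

theorem scaleGraded_irrelevant (φ : R →+* R') (c : Fin (n + 1) → R') (hc : ∀ j, IsUnit (c j)) :
    HomogeneousIdeal.irrelevant (CohB1.polyGrading n R') ≤
      (HomogeneousIdeal.irrelevant (CohB1.polyGrading n R)).map (scaleGraded n φ c) := by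
  show (HomogeneousIdeal.irrelevant (CohB1.polyGrading n R')).toIdeal ≤
    ((HomogeneousIdeal.irrelevant (CohB1.polyGrading n R)).map (scaleGraded n φ c)).toIdeal
  refine (L16.ProjSpace.irrelevant_le_span n R').trans (Ideal.span_le.2 ?_)
  rintro _ ⟨i, rfl⟩
  have h : (X i : MvPolynomial (Fin (n + 1)) R') = C (((hc i).unit⁻¹ : R'ˣ) : R') * scaleGraded n φ c (X i) := by
    rw [scaleGraded_apply, eval₂Hom_X', ← _root_.mul_assoc, ← C_mul, IsUnit.val_inv_mul, C_1,
      _root_.one_mul]
  rw [h]
  exact Ideal.mul_mem_left _ _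
    (Ideal.mem_map_of_mem _ (HomogeneousIdeal.mem_irrelevant_of_mem _ one_pos (L16.ProjSpace.X_mem n R i)))

/-- The morphism `[xⱼ] ↦ [cⱼ xⱼ]`. -/
def smap (φ : R →+* R') (c : Fin (n + 1) → R') (hc : ∀ j, IsUnit (c j)) :
    CohB1.ProjSpace n R' ⟶ CohB1.ProjSpace n R :=
  Proj.map (scaleGraded n φ c) (scaleGraded_irrelevant n φ c hc)

omit [CommRing R''] in
theorem projMap_congr {f g : CohB1.polyGrading n R →+*ᵍ CohB1.polyGrading n R'} (h : ∀ p, f p = g p)
    (hf : HomogeneousIdeal.irrelevant (CohB1.polyGrading n R') ≤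
      (HomogeneousIdeal.irrelevant (CohB1.polyGrading n R)).map f)
    (hg : HomogeneousIdeal.irrelevant (CohB1.polyGrading n R') ≤
      (HomogeneousIdeal.irrelevant (CohB1.polyGrading n R)).map g) :
    Proj.map f hf = Proj.map g hg := by
  obtain rfl : f = g := DFunLike.ext f g h
  rfl

theorem map_eq_smap (φ : R →+* R') :
    L16.ProjSpace.map n φ = smap n φ (fun _ => 1) (fun _ => isUnit_one) := by
  refine projMap_congr n (fun p => ?_) _ _
  simp only [L16.ProjSpace.mapGraded_apply, scaleGraded_apply, C_1, _root_.one_mul]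
  induction p using MvPolynomial.induction_on with
  | C r => simp
  | add p q hp hq => simp only [map_add, hp, hq]
  | mul_X p j hp => simp only [map_mul, hp, map_X, eval₂Hom_X']

theorem smap_id : smap n (RingHom.id R) (fun _ => 1) (fun _ => isUnit_one) = 𝟙 _ := by
  refine (projMap_congr n (g := .id _) (fun p => ?_) _ (by simp)).trans Proj.map_id
  simp only [scaleGraded_apply, C_1, _root_.one_mul, RingHom.comp_id]
  exact eval₂_eta p

theorem smap_comp (φ : R →+* R') (c : Fin (n + 1) → R') (hc : ∀ j, IsUnit (c j))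
    (ψ : R' →+* R'') (d : Fin (n + 1) → R'') (hd : ∀ j, IsUnit (d j)) :
    smap n ψ d hd ≫ smap n φ c hc =
      smap n (ψ.comp φ) (fun j => ψ (c j) * d j) (fun j => ((hc j).map ψ).mul (hd j)) := by
  refine (Proj.map_comp _ _ _ _).symm.trans (projMap_congr n (fun p => ?_) _ _)
  show scaleGraded n ψ d (scaleGraded n φ c p) = _
  simp only [scaleGraded_apply]
  induction p using MvPolynomial.induction_on with
  | C r => simp
  | add p q hp hq => simp only [map_add, hp, hq]
  | mul_X p j hp =>
    simp only [map_mul, hp, eval₂Hom_X', eval₂Hom_C, RingHom.comp_apply, _root_.mul_assoc]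

theorem smap_congr {φ φ' : R →+* R'} (h : φ = φ') {c c' : Fin (n + 1) → R'} (h' : ∀ j, c j = c' j)
    (hc : ∀ j, IsUnit (c j)) (hc' : ∀ j, IsUnit (c' j)) : smap n φ c hc = smap n φ' c' hc' := by
  subst h
  obtain rfl := funext h'
  rfl

variable {n}

/-- A tuple point read on the localisation at any linear form that is a unit there. -/
theorem tuplePt_eq_awayι {B : CommRingCat.{u}} (τ : R →+* B) (b : Fin (n + 1) → B) (i : Fin (n + 1))
    (hb : IsUnit (b i)) (p : MvPolynomial (Fin (n + 1)) R) (hp : p ∈ CohB1.polyGrading n R 1)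
    (hu : IsUnit (eval₂Hom τ b p)) :
    L18.PS.tuplePt τ b i hb = Spec.map (CommRingCat.ofHom (L18.PS.awayEval τ b p hu)) ≫
      Proj.awayι (CohB1.polyGrading n R) p hp one_pos := by
  have hX := L18.PS.X_mem (R := R) n i
  have hip : IsUnit (eval₂Hom τ b (X i * p)) := by
    rw [map_mul]; exact (L18.PS.isUnit_eval_X τ b hb).mul hu
  have e1 := Proj.SpecMap_awayMap_awayι (CohB1.polyGrading n R) hX one_pos hp
    (x := X i * p) rfl
  have e2 := Proj.SpecMap_awayMap_awayι (CohB1.polyGrading n R) hp one_pos hX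
    (x := X i * p) (mul_comm _ _)
  have f1 := L18.PS.awayEval_awayMap τ b hp (x := X i * p) rfl (L18.PS.isUnit_eval_X τ b hb) hip
  have f2 := L18.PS.awayEval_awayMap τ b hX (x := X i * p) (mul_comm _ _) hu hip
  unfold L18.PS.tuplePt L18.PS.chartHom
  rw [← f1, ← f2, CommRingCat.ofHom_comp, CommRingCat.ofHom_comp, Spec.map_comp, Spec.map_comp]
  exact ((Category.assoc _ _ _).trans (congrArg (Spec.map _ ≫ ·) (e1.trans e2.symm))).trans
    (Category.assoc _ _ _).symm

/-- The effect on tuples. -/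
theorem tuplePt_smap {B : CommRingCat.{u}} (τ : R' →+* B) (b : Fin (n + 1) → B) (i : Fin (n + 1))
    (hb : IsUnit (b i)) (φ : R →+* R') (c : Fin (n + 1) → R') (hc : ∀ j, IsUnit (c j)) :
    L18.PS.tuplePt τ b i hb ≫ smap n φ c hc =
      L18.PS.tuplePt (τ.comp φ) (fun j => τ (c j) * b j) i (((hc i).map τ).mul hb) := by
  have hev : ∀ x : MvPolynomial (Fin (n + 1)) R, eval₂Hom τ b (scaleGraded n φ c x) =
      eval₂Hom (τ.comp φ) (fun j => τ (c j) * b j) x := fun x => by
    rw [scaleGraded_apply]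
    induction x using MvPolynomial.induction_on with
    | C r => simp
    | add p q hp hq => simp only [map_add, hp, hq]
    | mul_X p j hp => simp only [map_mul, hp, eval₂Hom_X', eval₂Hom_C]
  have hu : IsUnit (eval₂Hom τ b (scaleGraded n φ c (X i))) := by
    rw [hev, eval₂Hom_X']
    exact ((hc i).map τ).mul hb
  refine (congrArg (· ≫ smap n φ c hc)
    (tuplePt_eq_awayι τ b i hb _ ((scaleGraded n φ c).map_mem (L18.PS.X_mem n i)) hu)).trans ?_
  refine (Category.assoc _ _ _).trans ((congrArg (Spec.map _ ≫ ·) (Proj.awayι_comp_map (scaleGraded n φ c)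
    (scaleGraded_irrelevant n φ c hc) one_pos (X i) (L18.PS.X_mem n i))).trans ?_)
  refine (Category.assoc _ _ _).symm.trans (congrArg (· ≫ _) ((Spec.map_comp _ _).symm.trans ?_))
  show Spec.map _ = _
  congr 1
  ext : 1
  ext z
  obtain ⟨k, x, hx, rfl⟩ := Away.mk_surjective (CohB1.polyGrading n R) (L18.PS.X_mem n i) z
  have hu' := L18.PS.isUnit_eval_X (τ.comp φ) (fun j => τ (c j) * b j) (i := i)
    (((hc i).map τ).mul hb)
  show L18.PS.awayEval τ b _ hu (Away.map (scaleGraded n φ c) (X i) _) = L18.PS.awayEval (τ.comp φ) _ (X i) hu' _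
  apply (hu'.pow k).mul_left_injective
  simp only
  rw [L18.PS.awayEval_mk (τ.comp φ) _ (X i) hu' (L18.PS.X_mem n i) k x hx, ← hev x,
    ← hev (X i), Away.map_mk]
  exact L18.PS.awayEval_mk τ b _ hu _ k _ _

end Groth.L08.P1Hom
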