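import Groth.Agent.L28.Ext.Central
import Groth.Agent.L26.AV.Hom
import Groth.Agent.L26.AV.SmoothField
import Groth.Agent.L25.Descent.CentralHom
import Groth.Agent.L25.Locus.Torus
import Groth.Agent.L08.AbelianGrp
import Groth.Agent.S5430
import Groth.Agent.S7785

/-!
# An extension of an abelian variety by a torus is commutative
-/

set_option autoImplicit false
set_option backward.isDefEq.respectTransparency.types false
set_option linter.style.haveILetI false

universe u

open CategoryTheory CategoryTheory.Limits MonoidalCategory CartesianMonoidalCategory MonObj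
open AlgebraicGeometry

noncomputable section

namespace Groth.L08.P1Hom

/-- A flat surjective homomorphism with a given kernel gives an fppf extension. -/
theorem isExactSeq_of_kernel {S : Scheme.{u}} {T E A : Over S} [GrpObj T] [GrpObj E] [GrpObj A]
    (i : T ⟶ E) [IsMonHom i] [Mono i] (q : E ⟶ A) [IsMonHom q] [Surjective q.left] [Flat q.left]
    [LocallyOfFinitePresentation q.left] (hker : AlgGrp.IsKernel i q) :
    NonAbH1.IsExactSeq Scheme.fppfPrecoverage i q := by
  have hiq : i ≫ q = 1 := by rw [Hom.one_def]; exact hker.w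
  have hm : (E ◁ i) ≫ μ[E] = fst E T * (snd E T ≫ i) := by
    rw [MonObj.mul_eq_mul, MonObj.comp_mul, whiskerLeft_fst, whiskerLeft_snd]
  refine ⟨‹_›, ‹_›, hiq, ?_, ?_⟩
  · rw [hm]
    have hw : fst E T ≫ q = (fst E T * (snd E T ≫ i)) ≫ q := by
      rw [MonObj.mul_comp, Category.assoc (snd E T), hiq, MonObj.comp_one, _root_.mul_one]
    have hk : ∀ s : PullbackCone q q, (s.fst⁻¹ * s.snd) ≫ q = toUnit _ ≫ η[A] := fun s => by
      rw [MonObj.mul_comp, GrpObj.inv_comp, s.condition, inv_mul_cancel, Hom.one_def]
    refine IsPullback.of_isLimit' ⟨hw⟩ (PullbackCone.IsLimit.mk hw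
      (fun s => lift s.fst (hker.lift _ (toUnit _) (hk s))) (fun s => lift_fst _ _) (fun s => ?_)
      (fun s m h1 h2 => ?_))
    · rw [MonObj.comp_mul, lift_fst, ← Category.assoc, lift_snd, hker.lift_fst, mul_inv_cancel_left]
    · apply CartesianMonoidalCategory.hom_ext
      · rw [lift_fst]; exact h1
      · rw [lift_snd, ← cancel_mono i, hker.lift_fst, ← h1, Category.assoc, eq_inv_mul_iff_mul_eq]
        rw [MonObj.comp_mul] at h2
        exact h2
  · refine ⟨Presieve.singleton q.left, Scheme.Hom.singleton_mem_fppfPrecoverage _, ?_⟩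
    rintro S' f ⟨⟩
    exact ⟨𝟙 _, Category.id_comp _⟩

variable {k : Type u} [Field k]

/-- An extension of an abelian variety by a torus over an algebraically closed field is commutative. -/
theorem isCommMonObj_of_extension [IsAlgClosed k] {T E A : Over (Spec (CommRingCat.of k))} [GrpObj T]
    [GrpObj E] [GrpObj A] [LocallyOfFiniteType E.hom] [QuasiCompact E.hom]
    (i : T ⟶ E) [IsMonHom i] [IsClosedImmersion i.left] (hT : Red.IsTorus T)
    (q : E ⟶ A) [IsMonHom q] [Surjective q.left] [Flat q.left] (hker : AlgGrp.IsKernel i q)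
    [IsProper A.hom] [Smooth A.hom] [ConnectedSpace ↥A.left] : IsCommMonObj E := by
  haveI := Groth.L08.AbelianGrp.isSeparated E
  haveI := Groth.L08.AbelianGrp.isSeparated T
  haveI : Mono i := (Over.forget _).mono_of_mono_map (inferInstanceAs (Mono i.left))
  haveI : LocallyOfFiniteType (q.left ≫ A.hom) := by rw [Over.w q]; infer_instance
  haveI : LocallyOfFiniteType q.left := locallyOfFiniteType_of_comp q.left A.hom
  haveI : IsLocallyNoetherian A.left := LocallyOfFiniteType.isLocallyNoetherian A.hom
  haveI : LocallyOfFinitePresentation q.left := L25.TrivLocus.lfp_of_noetherian q.left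
  haveI : QuasiCompact (q.left ≫ A.hom) := by rw [Over.w q]; infer_instance
  haveI : QuasiCompact q.left := QuasiCompact.of_comp q.left A.hom
  have hM := L25.Locus.isMultTypeFT_of_isTorus hT
  haveI : LocallyOfFiniteType T.hom := L25.TrivLocus.lft_of_multTypeFT hM
  haveI : IsCommMonObj T := ⟨by
    rw [MonObj.mul_eq_mul, MonObj.comp_mul, braiding_hom_fst, braiding_hom_snd]
    exact L25.Central.mul_comm_of_multTypeFT hM _ _⟩
  have hex := isExactSeq_of_kernel i q hker
  have hAc : ∀ s : (Spec (CommRingCat.of k) : Scheme.{u}), _root_.IsConnected (A.hom.base ⁻¹' {s}) := by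
    intro s
    haveI : Subsingleton ↥(Spec (CommRingCat.of k)) := inferInstanceAs (Subsingleton (PrimeSpectrum k))
    rw [show A.hom.base ⁻¹' {s} = Set.univ from Set.eq_univ_of_forall fun a => Subsingleton.elim _ _]
    exact isConnected_univ
  have hc : ∀ (X : Over (Spec (CommRingCat.of k))) (g : X ⟶ T) (x : X ⟶ E),
      (g ≫ i) * x = x * (g ≫ i) := fun X g x =>
    Groth.Agent.S5430.result _ E T A q i hker hM hAc X g x
  haveI := Groth.Agent.AV.geometricallyReduced_of_smooth A.hom
  haveI := Groth.L25.Descent.geometricallyConnected_of_connected A.hom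
  haveI : IsCommMonObj A := Groth.Agent.S7785.result A
  haveI := Groth.Agent.AV.geometricallyIntegral_of_connected A
  refine Groth.L28.Ext.isCommMonObj_of hex hc fun f h1 h2 => ?_
  rw [Hom.one_def, Groth.Agent.AV.rigidity f η[A] η[A] η[T] (h1.trans Hom.one_def),
    show lift (toUnit A ≫ η[A]) (𝟙 A) ≫ f = toUnit A ≫ η[T] by rw [h2, Hom.one_def],
    ← Category.assoc, comp_toUnit]

/-- Commutativity descends along field extensions. -/
theorem isCommMonObj_of_bc {K : Type u} [Field K] (t : Spec (CommRingCat.of K) ⟶ Spec (CommRingCat.of k))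
    {G : Over (Spec (CommRingCat.of k))} [GrpObj G] [IsCommMonObj (Red.bc t G)] : IsCommMonObj G := by
  obtain ⟨θ, hθ⟩ := Spec.map_surjective (R := CommRingCat.of k) (S := CommRingCat.of K) t
  haveI : Flat t := by
    rw [← hθ, Flat.SpecMap_iff]
    letI := θ.hom.toAlgebra
    exact inferInstanceAs (Module.Flat k K)
  haveI : Surjective t := ⟨fun y => ⟨IsLocalRing.closedPoint K, Subsingleton.elim _ _⟩⟩
  constructor
  rw [MonObj.mul_eq_mul, MonObj.comp_mul, braiding_hom_fst, braiding_hom_snd]
  let π : (Red.bc t (G ⊗ G)).left ⟶ (G ⊗ G).left := pullback.fst (G ⊗ G).hom t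
  haveI : Epi π := Flat.epi_of_flat_of_surjective _
  let Y := Red.bc t (G ⊗ G)
  let p : Over.mk (Y.hom ≫ t) ⟶ G ⊗ G := L25.NilAction.toBase t (𝟙 Y)
  have h : p ≫ (snd G G * fst G G) = p ≫ (fst G G * snd G G) := by
    have hh := IsCommMonObj.mul_comm (Red.bc t G)
    rw [MonObj.comp_mul, MonObj.comp_mul, ← L25.NilAction.toBase_ofBase t (p ≫ fst G G),
      ← L25.NilAction.toBase_ofBase t (p ≫ snd G G), ← L25.NilAction.toBase_mul,
      ← L25.NilAction.toBase_mul, _root_.mul_comm]
  apply Over.OverMorphism.ext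
  refine (cancel_epi π).1 ?_
  have h2 := congrArg (fun m => m.left) h
  simp only [Over.comp_left, p, L25.NilAction.toBase, Over.homMk_left, Category.id_comp] at h2
  exact h2

end Groth.L08.P1Hom
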