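import Groth.Agent.L08.P1Hom.Main
import Groth.Agent.L08.AbelianGrp
import Groth.Agent.L11.REq.P1Spread
import Groth.Agent.L25.SplitSub.Map
import Groth.Agent.L25.TrivLocus
import Groth.Agent.L25.Locus.Torus

/-!
# Morphisms from the affine line, the multiplicative group and tori to proper groups

They extend to the projective line, hence are constant; so a homomorphism from a torus over an
algebraically closed field to a proper group is trivial.
-/

set_option autoImplicit false
set_option backward.isDefEq.respectTransparency.types false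
set_option linter.style.haveILetI false

universe u

open CategoryTheory CategoryTheory.Limits MonoidalCategory CartesianMonoidalCategory MonObj
open AlgebraicGeometry

noncomputable section

namespace Groth.L08.P1Hom

variable {k : Type u} [Field k]

/-- the affine line in the projective line -/
def a1 : Spec (CommRingCat.of (Polynomial k)) ⟶ CohB1.ProjSpace 1 k :=
  L18.PS.tuplePt (B := CommRingCat.of (Polynomial k)) (Polynomial.C : k →+* Polynomial k)
    (fun j => if j = 0 then 1 else Polynomial.X) 0 (by simp)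

instance isOpenImmersion_a1 : IsOpenImmersion (a1 (k := k)) := by
  haveI : IsIso (CommRingCat.ofHom (L18.PS.chartHom (Polynomial.C : k →+* Polynomial k)
      (fun j : Fin (1 + 1) => if j = 0 then 1 else Polynomial.X) 0 (by simp))) :=
    (ConcreteCategory.isIso_iff_bijective _).mpr (L11.REqHom.chartHom_line_bijective k)
  rw [a1, L18.PS.tuplePt]
  infer_instance

theorem a1_toSpec : a1 (k := k) ≫ CohB1.ProjSpace.toSpec 1 k =
    Spec.map (CommRingCat.ofHom (Polynomial.C : k →+* Polynomial k)) :=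
  L18.PS.tuplePt_toSpec _ _ _ _

theorem const_of_open {U : Over (Spec (CommRingCat.of k))} [Nonempty ↥U.left]
    (j : U.left ⟶ CohB1.ProjSpace 1 k) [IsOpenImmersion j]
    (hj : j ≫ CohB1.ProjSpace.toSpec 1 k = U.hom)
    {A : Over (Spec (CommRingCat.of k))} [GrpObj A] [IsProper A.hom] (f : U ⟶ A) :
    ∃ c : 𝟙_ (Over (Spec (CommRingCat.of k))) ⟶ A, f = toUnit U ≫ c := by
  let e := L16.ProjSpace.isoOver 1 k
  let jo : U.left ⟶ REq.P1K k := j ≫ e.hom
  let h : (jo.opensRange).toScheme ⟶ A.left := jo.isoOpensRange.inv ≫ f.left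
  obtain ⟨φ, hφ, hres⟩ := L11.REqHom.exists_extend_P1 k A.hom
    (CohB1.ProjSpaceOver.toBase 1 (Spec (CommRingCat.of k))) jo.opensRange
    (Set.range_nonempty jo) h (by
      show (jo.isoOpensRange.inv ≫ f.left) ≫ A.hom = _
      rw [Category.assoc, Over.w f, ← hj, ← L16.ProjSpace.isoOver_hom_toBase, ← Category.assoc j,
        ← Category.assoc, Scheme.Hom.isoOpensRange_inv_comp])
  haveI := Groth.L08.AbelianGrp.isSeparated A
  obtain ⟨g, hg, hc⟩ := const_of_projLine (G := A) (e.hom ≫ φ)
    (by rw [Category.assoc, hφ, L16.ProjSpace.isoOver_hom_toBase])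
  refine ⟨Over.homMk g (by rw [hg]; rfl), Over.OverMorphism.ext ?_⟩
  show f.left = (toUnit U).left ≫ g
  rw [Over.toUnit_left]
  have h1 : jo ≫ φ = f.left := by
    rw [← jo.isoOpensRange_hom_ι, Category.assoc, hres]
    exact Iso.hom_inv_id_assoc _ _
  rw [← h1, Category.assoc, hc, ← Category.assoc, hj]

/-- A morphism from the affine line to a proper group is constant. -/
theorem const_of_affineLine {A : Over (Spec (CommRingCat.of k))} [GrpObj A] [IsProper A.hom]
    (f : (Over.mk (Spec.map (CommRingCat.ofHom (Polynomial.C : k →+* Polynomial k))) :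
      Over (Spec (CommRingCat.of k))) ⟶ A) :
    ∃ c : 𝟙_ (Over (Spec (CommRingCat.of k))) ⟶ A, f = toUnit _ ≫ c := by
  haveI : Nonempty ↥(Over.mk (Spec.map (CommRingCat.ofHom (Polynomial.C : k →+* Polynomial k))) :
      Over (Spec (CommRingCat.of k))).left :=
    inferInstanceAs (Nonempty ↥(Spec (CommRingCat.of (Polynomial k))))
  haveI : IsOpenImmersion (a1 (k := k)) := inferInstance
  exact const_of_open a1 a1_toSpec f

/-- A morphism from the multiplicative group to a proper group is constant. -/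
theorem const_of_Gm {A : Over (Spec (CommRingCat.of k))} [GrpObj A] [IsProper A.hom]
    (f : Red.Gm (Spec (CommRingCat.of k)) ⟶ A) :
    ∃ c : 𝟙_ (Over (Spec (CommRingCat.of k))) ⟶ A, f = toUnit _ ≫ c := by
  let R := Localization.Away (Polynomial.X : Polynomial k)
  let alg : k →+* R := (algebraMap (Polynomial k) R).comp Polynomial.C
  let Y : Over (Spec (CommRingCat.of k)) := Over.mk (Spec.map (CommRingCat.ofHom alg))
  haveI : IsDomain R :=
    IsLocalization.isDomain_localization (powers_le_nonZeroDivisors_of_noZeroDivisors Polynomial.X_ne_zero)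
  haveI : Nonempty ↥Y.left := inferInstanceAs (Nonempty ↥(Spec (CommRingCat.of R)))
  let T : R := algebraMap (Polynomial k) R Polynomial.X
  have hT : IsUnit T := IsLocalization.Away.algebraMap_isUnit (S := R) Polynomial.X
  let v : (Γ(Y.left, ⊤))ˣ := Units.map (Scheme.ΓSpecIso (CommRingCat.of R)).inv.hom.toMonoidHom hT.unit
  let q : Y ⟶ Red.Gm (Spec (CommRingCat.of k)) := GmPts.ptOfUnit v
  let iL : Spec (CommRingCat.of R) ⟶ Spec (CommRingCat.of (Polynomial k)) :=
    Spec.map (CommRingCat.ofHom (algebraMap (Polynomial k) R))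
  haveI : IsOpenImmersion iL := IsOpenImmersion.of_isLocalization (Polynomial.X : Polynomial k)
  haveI : IsOpenImmersion (iL ≫ a1 (k := k)) := inferInstance
  obtain ⟨c, hc⟩ := const_of_open (U := Y) (iL ≫ a1)
    (by rw [Category.assoc, a1_toSpec]; exact (Spec.map_comp _ _).symm) (q ≫ f)
  refine ⟨c, ?_⟩
  -- the tautological point factors through `Y`
  let W := Red.Gm (Spec (CommRingCat.of k))
  let w : (Γ(W.left, ⊤))ˣ := GmPts.unitOfPt (𝟙 W)
  let κ : k →+* Γ(W.left, ⊤) := ((Scheme.ΓSpecIso (CommRingCat.of k)).inv ≫ W.hom.appTop).hom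
  have hX : IsUnit (Polynomial.eval₂RingHom κ (w : Γ(W.left, ⊤)) Polynomial.X) := by simp
  let θ : R →+* Γ(W.left, ⊤) := IsLocalization.Away.lift (Polynomial.X : Polynomial k) hX
  have hθ : θ.comp alg = κ := by
    ext r; simp [θ, alg, IsLocalization.Away.lift_eq]
  have hθT : θ T = w := by simp [θ, T, IsLocalization.Away.lift_eq]
  have hstr : W.left.toSpecΓ ≫ Spec.map ((Scheme.ΓSpecIso (CommRingCat.of k)).inv ≫ W.hom.appTop) =
      W.hom := by
    rw [Spec.map_comp, ← Scheme.toSpecΓ_naturality_assoc, ← SpecMap_ΓSpecIso_hom, ← Spec.map_comp,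
      Iso.inv_hom_id, Spec.map_id, Category.comp_id]
  let h : W ⟶ Y := Over.homMk (W.left.toSpecΓ ≫ Spec.map (CommRingCat.ofHom θ)) (by
    show (_ ≫ _) ≫ Spec.map _ = W.hom
    rw [Category.assoc, ← Spec.map_comp, ← CommRingCat.ofHom_comp, hθ]
    exact hstr)
  have hhq : h ≫ q = 𝟙 W := by
    rw [← GmPts.ptOfUnit_unitOfPt (h ≫ q), ← GmPts.ptOfUnit_unitOfPt (𝟙 W), GmPts.unitOfPt_comp]
    congr 1
    refine Units.ext ?_
    show h.left.appTop.hom ((GmPts.unitOfPt q : (Γ(Y.left, ⊤))ˣ) : Γ(Y.left, ⊤)) = w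
    rw [GmPts.unitOfPt_ptOfUnit, ← hθT]
    show h.left.appTop.hom ((Scheme.ΓSpecIso (CommRingCat.of R)).inv T) = θ T
    show ((Scheme.ΓSpecIso (CommRingCat.of R)).inv ≫
      (W.left.toSpecΓ ≫ Spec.map (CommRingCat.ofHom θ)).appTop).hom T = θ T
    rw [Scheme.Hom.comp_appTop, ← Scheme.ΓSpecIso_inv_naturality_assoc, Scheme.toSpecΓ_appTop,
      Iso.inv_hom_id]
    rfl
  calc f = (h ≫ q) ≫ f := by rw [hhq, Category.id_comp]
    _ = toUnit _ ≫ c := by rw [Category.assoc, hc, ← Category.assoc, comp_toUnit]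

/-- A homomorphism from a split torus to a proper group is trivial. -/
theorem hom_splitTorus_eq_one {A : Over (Spec (CommRingCat.of k))} [GrpObj A] [IsProper A.hom]
    (r : ℕ) (f : Red.DS (Spec (CommRingCat.of k)) (Fin r → ℤ) ⟶ A) [IsMonHom f] : f = 1 := by
  classical
  let S := Spec (CommRingCat.of k)
  let D := Red.DS S (Fin r → ℤ)
  let ev : Fin r → ((Fin r → ℤ) →+ ℤ) := fun i => Pi.evalAddMonoidHom (fun _ : Fin r => ℤ) i
  let inc : Fin r → (ℤ →+ (Fin r → ℤ)) := fun i => zmultiplesHom _ (Pi.single i 1)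
  let χ : Fin r → (Multiplicative (Fin r → ℤ) →* Γ(D.left, ⊤)) := fun i =>
    (L25.DSPts.char (𝟙 D)).comp (AddMonoidHom.toMultiplicative ((inc i).comp (ev i)))
  have hχ : ∀ i, L25.DSPts.pt (χ i) = Red.DSmap S ((inc i).comp (ev i)) := fun i => by
    conv_rhs => rw [← L25.DSPts.pt_char (Red.DSmap S ((inc i).comp (ev i)))]
    congr 1
    rw [← Category.id_comp (Red.DSmap S _), L25.SplitSub.char_DSmap]
  have hterm : ∀ i, L25.DSPts.pt (χ i) ≫ f = 1 := fun i => by
    haveI := L25.TorusTorsion.isMonHom_DSmap S (ev i)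
    obtain ⟨c, hc⟩ := const_of_Gm (Red.DSmap S (ev i) ≫ f)
    have hc1 : c = 1 := by
      have h : (1 : 𝟙_ (Over S) ⟶ Red.DS S ℤ) ≫ Red.DSmap S (ev i) ≫ f = (1 : 𝟙_ (Over S) ⟶ Red.DS S ℤ) ≫ toUnit _ ≫ c :=
        congrArg _ hc
      rw [← Category.assoc, MonObj.one_comp (Red.DSmap S (ev i)), MonObj.one_comp, ← Category.assoc,
        toUnit_unique ((1 : 𝟙_ (Over S) ⟶ Red.DS S ℤ) ≫ toUnit _) (𝟙 _)] at h
      exact (Category.id_comp c).symm.trans h.symm
    rw [hχ, ← L25.TorusTorsion.DSmap_comp, Category.assoc, hc, hc1, MonObj.comp_one,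
      MonObj.comp_one]
  have hprod : ∀ s : Finset (Fin r), L25.DSPts.pt (∏ i ∈ s, χ i) ≫ f = 1 := by
    intro s
    induction s using Finset.induction with
    | empty => rw [Finset.prod_empty, L25.DSPts.pt_one, MonObj.one_comp]
    | insert i s hi ih =>
      rw [Finset.prod_insert hi, L25.DSPts.pt_mul, MonObj.mul_comp, hterm, ih, _root_.mul_one]
  have hall : ∏ i, χ i = L25.DSPts.char (𝟙 D) := by
    refine MonoidHom.ext fun m => ?_
    rw [MonoidHom.finsetProd_apply]
    simp only [χ, MonoidHom.comp_apply]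
    rw [← map_prod]
    congr 1
    apply Multiplicative.toAdd.injective
    rw [toAdd_prod]
    funext l
    simp [inc, ev, Finset.sum_apply, Pi.single_apply]
  have h := hprod Finset.univ
  rw [hall, L25.DSPts.pt_char, Category.id_comp] at h
  exact h

/-- A homomorphism from a torus to a proper group over a field is trivial. -/
theorem hom_torus_eq_one {T A : Over (Spec (CommRingCat.of k))} [GrpObj T] [GrpObj A]
    (hT : Red.IsTorus T) [IsProper A.hom] (f : T ⟶ A) [IsMonHom f] : f = 1 := by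
  obtain ⟨S', g, -, hsurj, -, hloc⟩ := hT
  obtain ⟨s', -⟩ := hsurj.surj (IsLocalRing.closedPoint k)
  obtain ⟨U, hs', r, ⟨e⟩⟩ := hloc s'
  let L := U.toScheme.residueField ⟨s', hs'⟩
  let σ : Spec (CommRingCat.of L) ⟶ U.toScheme := U.toScheme.fromSpecResidueField ⟨s', hs'⟩
  let t := σ ≫ U.ι ≫ g
  let eL : Grp.mk (Red.bc t T) ≅ Grp.mk (Red.DS (Spec (CommRingCat.of L)) (Fin r → ℤ)) :=
    L25.TrivLocus.restrictIso (U.ι ≫ g) σ e rfl
  haveI : IsProper (Red.bc t A).hom := MorphismProperty.pullback_snd _ _ ‹IsProper A.hom›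
  haveI : IsMonHom eL.inv.hom.hom := eL.inv.hom.isMonHom_hom
  have h1 : eL.inv.hom.hom ≫ (Over.pullback t).map f = 1 :=
    hom_splitTorus_eq_one r (eL.inv.hom.hom ≫ (Over.pullback t).map f)
  have h2 : (Over.pullback t).map f = 1 := by
    calc (Over.pullback t).map f = (eL.hom.hom.hom ≫ eL.inv.hom.hom) ≫ (Over.pullback t).map f := by
          rw [show eL.hom.hom.hom ≫ eL.inv.hom.hom = 𝟙 _ from congr($(eL.hom_inv_id).hom.hom)]
          exact (Category.id_comp _).symm
      _ = 1 := by rw [Category.assoc, h1, MonObj.comp_one]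
  have h3 : L25.TrivLocus.Triv f t := (L25.TrivLocus.triv_iff_map f t).2 h2
  obtain ⟨θ, hθ⟩ := Spec.map_surjective (R := CommRingCat.of k) (S := CommRingCat.of L) t
  haveI : Flat t := by
    rw [← hθ, Flat.SpecMap_iff]
    letI := θ.hom.toAlgebra
    exact inferInstanceAs (Module.Flat k L)
  haveI : Surjective t := ⟨fun y => ⟨IsLocalRing.closedPoint L, Subsingleton.elim _ _⟩⟩
  have h4 : L25.TrivLocus.Triv f (𝟙 (Spec (CommRingCat.of k))) :=
    L25.TrivLocus.Triv.of_flat_surjective f t (by rwa [Category.comp_id])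
  simpa using h4 T (Over.homMk T.hom (Category.comp_id _)) (𝟙 T)

end Groth.L08.P1Hom
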